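import Mathlib

/-!
# The staircase basis of the universal splitting algebra

For a commutative ring `R` and `a₁, …, aₙ` the algebra `R[t₁, …, tₙ]/(eᵢ(t) - aᵢ)` is free with basis
the monomials `t^d`, `dᵢ < n - i`.
-/

set_option autoImplicit false
universe u

open Polynomial

namespace Groth.Agent.ZBStair

/-- The staircase exponents. -/
abbrev Exp (n : ℕ) := Π i : Fin n, Fin (n - (i : ℕ))

/-- Splitting off the first exponent. -/
def expEquiv (n : ℕ) : Exp (n + 1) ≃ Exp n × Fin (n + 1) where
  toFun d := (fun i => ⟨(d i.succ : ℕ), (d i.succ).2.trans_eq (by simp [Nat.succ_sub_succ])⟩,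
    ⟨(d 0 : ℕ), (d 0).2.trans_eq (by simp)⟩)
  invFun p := Fin.cons (α := fun i : Fin (n + 1) => Fin (n + 1 - (i : ℕ)))
    ⟨(p.2 : ℕ), p.2.2.trans_eq (by simp)⟩
    (fun i => ⟨(p.1 i : ℕ), (p.1 i).2.trans_eq (by simp [Nat.succ_sub_succ])⟩)
  left_inv d := by
    funext i
    refine Fin.cases ?_ (fun j => ?_) i <;> simp
  right_inv p := by
    refine Prod.ext (funext fun i => ?_) ?_ <;> simp

theorem expEquiv_zero {n : ℕ} (d : Exp (n + 1)) : ((expEquiv n d).2 : ℕ) = (d 0 : ℕ) := rfl

theorem expEquiv_succ {n : ℕ} (d : Exp (n + 1)) (i : Fin n) :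
    ((expEquiv n d).1 i : ℕ) = (d i.succ : ℕ) := rfl

/-- The universal splitting algebra, with its staircase basis. -/
theorem exists_splitting : ∀ (n : ℕ) (R : Type u) [CommRing R] [Nontrivial R] (P : R[X]),
    P.Monic → P.natDegree = n →
    ∃ (T : Type u) (_ : CommRing T) (_ : Algebra R T) (v : Fin n → T)
      (b : Module.Basis (Exp n) R T),
      P.map (algebraMap R T) = ∏ i, (X - C (v i)) ∧ (∀ d, b d = ∏ i, v i ^ (d i : ℕ)) ∧
      ∀ (T' : Type u) [CommRing T'] [Algebra R T'] (v' : Fin n → T'),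
        P.map (algebraMap R T') = ∏ i, (X - C (v' i)) → ∃ h : T →ₐ[R] T', ∀ i, h (v i) = v' i := by
  intro n
  induction n with
  | zero =>
    intro R _ _ P hP hn
    obtain rfl := hP.natDegree_eq_zero.mp hn
    haveI : Unique (Exp 0) := Pi.uniqueOfIsEmpty _
    refine ⟨R, inferInstance, inferInstance, Fin.elim0, Module.Basis.singleton (Exp 0) R, by simp,
      fun d => by simp, fun T' _ _ v' _ => ⟨Algebra.ofId R T', fun i => i.elim0⟩⟩
  | succ n ih =>
    intro R _ _ P hP hn
    let R' := AdjoinRoot P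
    let pb := AdjoinRoot.powerBasis' hP
    haveI : Nontrivial R' := by
      haveI : Nonempty (Fin pb.dim) :=
        ⟨⟨0, by rw [AdjoinRoot.powerBasis'_dim, hn]; omega⟩⟩
      exact ⟨pb.basis (Classical.arbitrary _), 0, pb.basis.ne_zero _⟩
    let x : R' := AdjoinRoot.root P
    obtain ⟨Q, hQ⟩ : X - C x ∣ P.map (algebraMap R R') := by
      rw [dvd_iff_isRoot]
      exact AdjoinRoot.isRoot_root P
    have hQm : Q.Monic := .of_mul_monic_left (monic_X_sub_C x) (hQ ▸ hP.map _)
    have hQn : Q.natDegree = n := by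
      have := congrArg natDegree hQ
      rw [hP.natDegree_map, (monic_X_sub_C x).natDegree_mul hQm, natDegree_X_sub_C, hn] at this
      omega
    obtain ⟨T, _, _, v, b, hv, hb, hu⟩ := ih R' Q hQm hQn
    letI : Algebra R T := ((algebraMap R' T).comp (algebraMap R R')).toAlgebra
    haveI : IsScalarTower R R' T := IsScalarTower.of_algebraMap_eq fun _ => rfl
    let w : Fin (n + 1) → T := Fin.cons (algebraMap R' T x) v
    have hw : P.map (algebraMap R T) = ∏ i, (X - C (w i)) := by
      rw [IsScalarTower.algebraMap_eq R R' T, ← Polynomial.map_map, hQ, Polynomial.map_mul,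
        Polynomial.map_sub, map_X, map_C, hv, Fin.prod_univ_succ]
      simp [w]
    let e : Exp (n + 1) ≃ Fin pb.dim × Exp n :=
      (expEquiv n).trans ((Equiv.prodComm _ _).trans ((finCongr (show n + 1 = pb.dim by
        rw [AdjoinRoot.powerBasis'_dim, hn])).prodCongr (Equiv.refl _)))
    let B : Module.Basis (Exp (n + 1)) R T := (pb.basis.smulTower b).reindex e.symm
    refine ⟨T, inferInstance, inferInstance, w, B, hw, fun d => ?_, ?_⟩
    · rw [Module.Basis.reindex_apply, Equiv.symm_symm, Module.Basis.smulTower_apply, pb.coe_basis,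
        hb, Fin.prod_univ_succ, Algebra.smul_def, AdjoinRoot.powerBasis'_gen, map_pow]
      rfl
    · intro T' _ _ v' hv'
      have hroot : (P.map (algebraMap R T')).eval (v' 0) = 0 := by
        rw [hv', eval_prod]
        exact Finset.prod_eq_zero (Finset.mem_univ 0) (by simp)
      let φ : R' →ₐ[R] T' := AdjoinRoot.liftAlgHom P (Algebra.ofId R T') (v' 0)
        (by rw [eval_map] at hroot; exact hroot)
      letI : Algebra R' T' := φ.toRingHom.toAlgebra
      haveI : IsScalarTower R R' T' := IsScalarTower.of_algebraMap_eq fun r => (φ.commutes r).symm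
      have hx : algebraMap R' T' x = v' 0 := AdjoinRoot.liftAlgHom_root _ _ _ _
      have hQ' : Q.map (algebraMap R' T') = ∏ i : Fin n, (X - C (v' i.succ)) := by
        have h1 := congrArg (Polynomial.map (algebraMap R' T')) hQ
        rw [Polynomial.map_map, ← IsScalarTower.algebraMap_eq, hv', Fin.prod_univ_succ,
          Polynomial.map_mul, Polynomial.map_sub, map_X, map_C, hx] at h1
        exact ((monic_X_sub_C (v' 0)).isRegular.left h1).symm
      obtain ⟨h, hh⟩ := hu T' (fun i => v' i.succ) hQ'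
      refine ⟨h.restrictScalars R, fun i => ?_⟩
      refine Fin.cases ?_ (fun j => ?_) i
      · show h (w 0) = v' 0
        simp only [w, Fin.cons_zero]
        rw [AlgHom.commutes, hx]
      · show h (w j.succ) = v' j.succ
        simp only [w, Fin.cons_succ]
        exact hh j

variable {n : ℕ} {R : Type u} [CommRing R]

/-- The polynomial with elementary symmetric functions `a` of the roots. -/
noncomputable def poly (a : Fin n → R) : R[X] :=
  X ^ n + ∑ i : Fin n, C ((-1) ^ ((i : ℕ) + 1) * a i) * X ^ (n - ((i : ℕ) + 1))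

theorem poly_coeff (a : Fin n → R) (i : Fin n) :
    (poly a).coeff (n - ((i : ℕ) + 1)) = (-1) ^ ((i : ℕ) + 1) * a i := by
  rw [poly, coeff_add, coeff_X_pow, if_neg (by omega), zero_add, finset_sum_coeff,
    Finset.sum_eq_single i]
  · rw [coeff_C_mul_X_pow, if_pos rfl]
  · intro j _ hj
    rw [coeff_C_mul_X_pow, if_neg]
    exact fun h => hj (Fin.ext (by omega))
  · simp

theorem poly_injective : Function.Injective (poly (n := n) (R := R)) := by
  intro a b h
  funext i
  have := congrArg (fun p : R[X] => p.coeff (n - ((i : ℕ) + 1))) h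
  simp only [poly_coeff] at this
  exact ((isUnit_one.neg.pow _).mul_right_inj).mp this

theorem poly_monic [Nontrivial R] (a : Fin n → R) : (poly a).Monic ∧ (poly a).natDegree = n := by
  have hd : (∑ i : Fin n, C ((-1) ^ ((i : ℕ) + 1) * a i) * X ^ (n - ((i : ℕ) + 1))).degree
      < (n : WithBot ℕ) := by
    refine lt_of_le_of_lt (degree_sum_le _ _) ((Finset.sup_lt_iff (WithBot.bot_lt_coe n)).mpr ?_)
    intro i _
    refine lt_of_le_of_lt (degree_C_mul_X_pow_le _ _) (WithBot.coe_lt_coe.mpr ?_)
    show n - ((i : ℕ) + 1) < n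
    omega
  refine ⟨monic_X_pow_add hd, natDegree_eq_of_degree_eq_some ?_⟩
  rw [poly, degree_add_eq_left_of_degree_lt (by rwa [degree_X_pow]), degree_X_pow]

theorem map_poly {S : Type u} [CommRing S] (φ : R →+* S) (a : Fin n → R) :
    (poly a).map φ = poly fun i => φ (a i) := by
  simp [poly, Polynomial.map_sum]

/-- The elementary symmetric functions of a tuple. -/
noncomputable def esym (v : Fin n → R) (i : Fin n) : R :=
  (Finset.univ.val.map v).esymm ((i : ℕ) + 1)

theorem prod_eq_poly (v : Fin n → R) : ∏ i, (X - C (v i)) = poly (esym v) := by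
  have h := Multiset.prod_X_sub_X_eq_sum_esymm (Finset.univ.val.map v)
  rw [Multiset.map_map, Multiset.card_map, Finset.card_val, Finset.card_univ, Fintype.card_fin,
    Finset.sum_range_succ'] at h
  rw [← Finset.prod_map_val, poly, add_comm]
  refine h.trans ?_
  rw [← Fin.sum_univ_eq_sum_range]
  congr 1
  · refine Finset.sum_congr rfl fun i _ => ?_
    rw [C_mul, C_pow, C_neg, C_1, esym, mul_assoc]
  · simp [Multiset.esymm]

theorem esym_eq_aeval {A : Type u} [CommRing A] [Algebra R A] (v : Fin n → A) (i : Fin n) :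
    esym v i = MvPolynomial.aeval v (MvPolynomial.esymm (Fin n) R ((i : ℕ) + 1)) :=
  (MvPolynomial.aeval_esymm_eq_multiset_esymm (Fin n) R _ v).symm

/-- The relations `eᵢ(t) = aᵢ`. -/
noncomputable abbrev rel (a : Fin n → R) : Ideal (MvPolynomial (Fin n) R) :=
  Ideal.span (Set.range fun i : Fin n =>
    MvPolynomial.esymm (Fin n) R ((i : ℕ) + 1) - MvPolynomial.C (a i))

/-- The staircase combination. -/
noncomputable abbrev comb (α : Exp n → R) : MvPolynomial (Fin n) R :=
  ∑ d : Exp n, MvPolynomial.C (α d) * ∏ i : Fin n, MvPolynomial.X i ^ ((d i : ℕ))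

/-- The staircase monomials form a basis of the quotient by the relations. -/
theorem bijective_mk_comb (a : Fin n → R) :
    Function.Bijective fun α : Exp n → R => Ideal.Quotient.mk (rel a) (comb α) := by
  rcases subsingleton_or_nontrivial R with hR | hR
  · haveI : Subsingleton (MvPolynomial (Fin n) R ⧸ rel a) :=
      Ideal.Quotient.mk_surjective.subsingleton
    exact ⟨fun α β _ => Subsingleton.elim α β, fun y => ⟨0, Subsingleton.elim _ _⟩⟩
  obtain ⟨T, _, _, v, b, hv, hb, hu⟩ := exists_splitting n R (poly a) (poly_monic a).1 (poly_monic a).2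
  have hav : ∀ i, algebraMap R T (a i) = esym v i := by
    have := poly_injective ((map_poly (algebraMap R T) a).symm.trans (hv.trans (prod_eq_poly v)))
    exact fun i => congrFun this i
  let A := MvPolynomial (Fin n) R ⧸ rel a
  let t : Fin n → A := fun i => Ideal.Quotient.mk (rel a) (MvPolynomial.X i)
  have ht : ∀ p, MvPolynomial.aeval t p = Ideal.Quotient.mk (rel a) p := fun p => by
    have : MvPolynomial.aeval t = Ideal.Quotient.mkₐ R (rel a) :=
      MvPolynomial.algHom_ext fun i => by rw [MvPolynomial.aeval_X]; rfl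
    rw [this]; rfl
  have hat : (poly a).map (algebraMap R A) = ∏ i, (X - C (t i)) := by
    rw [prod_eq_poly, map_poly]
    congr 1
    funext i
    rw [esym_eq_aeval (R := R), ht]
    have hmem : MvPolynomial.esymm (Fin n) R ((i : ℕ) + 1) - MvPolynomial.C (a i) ∈ rel a :=
      Ideal.subset_span ⟨i, rfl⟩
    exact (Ideal.Quotient.eq.mpr hmem).symm
  obtain ⟨h, hh⟩ := hu A t hat
  let g : A →ₐ[R] T := Ideal.Quotient.liftₐ (rel a) (MvPolynomial.aeval v) (fun p hp => by
    have : rel a ≤ RingHom.ker (MvPolynomial.aeval (R := R) v) := by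
      rw [Ideal.span_le]
      rintro _ ⟨i, rfl⟩
      rw [SetLike.mem_coe, RingHom.mem_ker, map_sub, MvPolynomial.aeval_C, ← esym_eq_aeval, hav,
        sub_self]
    exact this hp)
  have hgt : ∀ i, g (t i) = v i := fun i => by
    show MvPolynomial.aeval v (MvPolynomial.X i) = v i
    rw [MvPolynomial.aeval_X]
  have hgh : g.comp h = AlgHom.id R T := by
    refine AlgHom.toLinearMap_injective (b.ext fun d => ?_)
    simp only [AlgHom.toLinearMap_apply, AlgHom.comp_apply, AlgHom.coe_id, id_eq, hb, map_prod,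
      map_pow, hh, hgt]
  have hhg : h.comp g = AlgHom.id R A := by
    refine Ideal.Quotient.algHom_ext R (MvPolynomial.algHom_ext fun i => ?_)
    show h (g (t i)) = t i
    rw [hgt, hh]
  have hbij : Function.Bijective h := by
    refine Function.bijective_iff_has_inverse.mpr ⟨g, fun x => ?_, fun x => ?_⟩
    · exact congr($hgh x)
    · exact congr($hhg x)
  have e : (fun α : Exp n → R => Ideal.Quotient.mk (rel a) (comb α)) =
      h ∘ b.equivFun.symm := by
    funext α
    rw [Function.comp_apply, b.equivFun_symm_apply, ← ht, map_sum]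
    simp [comb, hb, map_prod, map_pow, hh, Algebra.smul_def]
  rw [e]
  exact hbij.comp b.equivFun.symm.bijective

/-- Uniqueness modulo an ideal of the base. -/
theorem comb_sub_mem_iff (a : Fin n → R) (J : Ideal R) (α β : Exp n → R) :
    comb α - comb β ∈ rel a ⊔ Ideal.map (MvPolynomial.C : R →+* MvPolynomial (Fin n) R) J ↔
      ∀ d, α d - β d ∈ J := by
  let q := MvPolynomial.map (σ := Fin n) (Ideal.Quotient.mk J)
  let ā : Fin n → R ⧸ J := fun i => Ideal.Quotient.mk J (a i)
  have hq : rel a ⊔ Ideal.map (MvPolynomial.C : R →+* MvPolynomial (Fin n) R) J ≤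
      (rel ā).comap q := by
    refine sup_le (Ideal.span_le.mpr ?_) (Ideal.map_le_iff_le_comap.mpr fun j hj => ?_)
    · rintro _ ⟨i, rfl⟩
      rw [SetLike.mem_coe, Ideal.mem_comap]
      exact Ideal.subset_span ⟨i, by simp [q, ā, MvPolynomial.map_esymm]⟩
    · show MvPolynomial.map (Ideal.Quotient.mk J) (MvPolynomial.C j) ∈ rel ā
      rw [MvPolynomial.map_C, Ideal.Quotient.eq_zero_iff_mem.mpr hj, map_zero]
      exact zero_mem _
  constructor
  · intro h d
    have h1 := (bijective_mk_comb ā).1 (a₁ := fun d => Ideal.Quotient.mk J (α d))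
      (a₂ := fun d => Ideal.Quotient.mk J (β d)) (Ideal.Quotient.eq.mpr (by
        simpa [q, comb, Ideal.mem_comap, map_sum, map_prod] using hq h))
    exact Ideal.Quotient.eq.mp (congrFun h1 d)
  · intro h
    rw [← Finset.sum_sub_distrib]
    refine Ideal.sum_mem _ fun d _ => ?_
    rw [← sub_mul, ← map_sub]
    exact Ideal.mul_mem_right _ _ (Submodule.mem_sup_right (Ideal.mem_map_of_mem _ (h d)))

/-- Existence with coefficients in an ideal of the base. -/
theorem mem_sup_iff (a : Fin n → R) (J : Ideal R) (x : MvPolynomial (Fin n) R) :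
    x ∈ rel a ⊔ Ideal.map (MvPolynomial.C : R →+* MvPolynomial (Fin n) R) J ↔
      ∃ j : Exp n → R, (∀ d, j d ∈ J) ∧ x - comb j ∈ rel a := by
  constructor
  · intro hx
    obtain ⟨α, hα⟩ := (bijective_mk_comb a).2 (Ideal.Quotient.mk (rel a) x)
    have hsub : x - comb α ∈ rel a := Ideal.Quotient.eq.mp hα.symm
    refine ⟨α, fun d => ?_, hsub⟩
    have h0 := (comb_sub_mem_iff a J α 0).mp (by
      have := Ideal.sub_mem _ hx (Submodule.mem_sup_left hsub)
      simpa [comb] using this) d
    simpa using h0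
  · rintro ⟨j, hj, h⟩
    have h0 := (comb_sub_mem_iff a J j 0).mpr (fun d => by simpa using hj d)
    have := Ideal.add_mem _ (Submodule.mem_sup_left h :
      x - comb j ∈ rel a ⊔ Ideal.map (MvPolynomial.C : R →+* MvPolynomial (Fin n) R) J) h0
    simpa [comb] using this

/-- The integral universal case. -/
theorem bijective_int (n : ℕ) :
    Function.Bijective (fun p : Exp n → MvPolynomial (Fin n) ℤ =>
      ∑ d : Exp n,
        (MvPolynomial.aeval (fun i : Fin n => MvPolynomial.esymm (Fin n) ℤ ((i : ℕ) + 1))) (p d) *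
          ∏ i : Fin n, MvPolynomial.X i ^ ((d i : ℕ))) := by
  let S := MvPolynomial (Fin n) ℤ
  let a : Fin n → S := fun i => MvPolynomial.X i
  let f : S →+* S :=
    (MvPolynomial.aeval (fun i : Fin n => MvPolynomial.esymm (Fin n) ℤ ((i : ℕ) + 1))).toRingHom
  let G₀ : MvPolynomial (Fin n) S →+* S := MvPolynomial.eval₂Hom f MvPolynomial.X
  have hG₀ : rel a ≤ RingHom.ker G₀ := by
    rw [Ideal.span_le]
    rintro _ ⟨i, rfl⟩
    simp only [SetLike.mem_coe, RingHom.mem_ker, map_sub]
    have h1 : G₀ (MvPolynomial.esymm (Fin n) S ((i : ℕ) + 1)) =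
        MvPolynomial.esymm (Fin n) ℤ ((i : ℕ) + 1) := by
      simp [G₀, MvPolynomial.esymm, map_sum, map_prod]
    rw [h1]
    rw [show G₀ (MvPolynomial.C (a i)) = MvPolynomial.esymm (Fin n) ℤ ((i : ℕ) + 1) from
      (MvPolynomial.eval₂Hom_C f _ _).trans (MvPolynomial.aeval_X _ i), sub_self]
  let g : MvPolynomial (Fin n) S ⧸ rel a →+* S := Ideal.Quotient.lift _ G₀ hG₀
  let h : S →+* MvPolynomial (Fin n) S ⧸ rel a :=
    MvPolynomial.eval₂Hom (Int.castRingHom _) fun i => Ideal.Quotient.mk _ (MvPolynomial.X i)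
  have hgh : g.comp h = RingHom.id S :=
    MvPolynomial.ringHom_ext (fun r => by simp) (fun i => (congrArg g (MvPolynomial.eval₂Hom_X' _ _ i)).trans
      ((Ideal.Quotient.lift_mk _ _ _).trans (MvPolynomial.eval₂Hom_X' f _ i)))
  have hhg : h.comp g = RingHom.id _ := by
    refine Ideal.Quotient.ringHom_ext (MvPolynomial.ringHom_ext' ?_ fun i => ?_)
    · refine MvPolynomial.ringHom_ext (fun r => by simp) fun i => ?_
      have h1 : h (MvPolynomial.esymm (Fin n) ℤ ((i : ℕ) + 1)) =
          Ideal.Quotient.mk (rel a) (MvPolynomial.esymm (Fin n) S ((i : ℕ) + 1)) := by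
        simp only [MvPolynomial.esymm, map_sum, map_prod]
        exact Finset.sum_congr rfl fun s _ => Finset.prod_congr rfl fun j _ =>
          MvPolynomial.eval₂Hom_X' _ _ j
      have h2 : Ideal.Quotient.mk (rel a) (MvPolynomial.esymm (Fin n) S ((i : ℕ) + 1)) =
          Ideal.Quotient.mk (rel a) (MvPolynomial.C (a i)) :=
        Ideal.Quotient.eq.mpr (Ideal.subset_span ⟨i, rfl⟩)
      exact (congrArg h ((Ideal.Quotient.lift_mk _ _ _).trans
        ((MvPolynomial.eval₂Hom_C f _ _).trans (MvPolynomial.aeval_X _ i)))).trans (h1.trans h2)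
    · exact (congrArg h ((Ideal.Quotient.lift_mk _ _ _).trans (MvPolynomial.eval₂Hom_X' f _ i))).trans
        (MvPolynomial.eval₂Hom_X' _ _ i)
  have hb : Function.Bijective g := by
    refine Function.bijective_iff_has_inverse.mpr ⟨h, fun x => ?_, fun x => ?_⟩
    · exact congr($hhg x)
    · exact congr($hgh x)
  convert hb.comp (bijective_mk_comb a) using 1
  funext p
  simp [g, G₀, comb, map_sum, map_prod, f]

end Groth.Agent.ZBStair
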